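import Mathlib

set_option autoImplicit false
universe u v w
open Polynomial

namespace Groth.Agent.Lib.Helper2.PL

section choose

/-- `C(p-1,k) ≡ (-1)^k mod p` in any ring where `p = 0`. -/
theorem choose_pred_cast {E : Type*} [Ring E] (p : ℕ) (hp : p.Prime) (hpE : (p : E) = 0)
    (k : ℕ) (hk : k ≤ p - 1) : (((p - 1).choose k : ℕ) : E) = (-1) ^ k := by
  induction k with
  | zero => simp
  | succ k ih =>
    have hk' : k ≤ p - 1 := by omega
    have ih' := ih hk'
    have hp1 : p - 1 + 1 = p := Nat.succ_pred_eq_of_pos hp.pos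
    have h1 : (p - 1 + 1).choose (k + 1) = (p - 1).choose k + (p - 1).choose (k + 1) :=
      Nat.choose_succ_succ (p - 1) k
    rw [hp1] at h1
    have h2 : p ∣ p.choose (k + 1) := hp.dvd_choose_self (by omega) (by omega)
    obtain ⟨c, hc⟩ := h2
    have h3 : ((p.choose (k + 1) : ℕ) : E) = 0 := by
      rw [hc, Nat.cast_mul, hpE, zero_mul]
    rw [h1, Nat.cast_add, ih'] at h3
    rw [pow_succ, mul_neg_one]
    exact eq_neg_of_add_eq_zero_right h3

theorem neg_one_pow_pred {E : Type*} [Ring E] (p : ℕ) (hp : p.Prime) (hpE : (p : E) = 0) :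
    ((-1 : E)) ^ (p - 1) = 1 := by
  rcases hp.eq_two_or_odd' with h | h
  · subst h
    have h2 : (2 : E) = 0 := by exact_mod_cast hpE
    have : (-1 : E) = 1 := by
      have : (1 : E) + 1 = 0 := by rw [one_add_one_eq_two, h2]
      exact neg_eq_of_add_eq_zero_left this
    simp [this]
  · have : Even (p - 1) := by
      obtain ⟨m, hm⟩ := h
      exact ⟨m, by omega⟩
    exact this.neg_one_pow

end choose

section lemmaB

variable {B : Type*} [Ring B]

/-- the commutator `x * y - y * x` -/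
def adA (x y : B) : B := x * y - y * x

theorem adA_eq_end (x y : B) : adA x y = (LinearMap.mulLeft ℤ x - LinearMap.mulRight ℤ x) y := by
  simp [adA]

theorem adA_iterate_eq_end (x y : B) (n : ℕ) :
    (adA x)^[n] y = ((LinearMap.mulLeft ℤ x - LinearMap.mulRight ℤ x) ^ n) y := by
  induction n generalizing y with
  | zero => simp
  | succ n ih =>
    rw [Function.iterate_succ_apply', ih, pow_succ', adA_eq_end]
    rfl

/-- in characteristic `p`, `(ad x)^(p-1) y = ∑_j x^j y x^(p-1-j)` -/
theorem adA_iterate_pred (p : ℕ) (hp : p.Prime) (hpB : (p : B) = 0) (x y : B) :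
    (adA x)^[p - 1] y = ∑ j ∈ Finset.range p, x ^ j * y * x ^ (p - 1 - j) := by
  rw [adA_iterate_eq_end]
  have hpE : ((p : ℕ) : Module.End ℤ B) = 0 := by
    ext z
    simp only [Module.End.natCast_apply, LinearMap.zero_apply]
    rw [nsmul_eq_mul, hpB, zero_mul]
  have hcomm : Commute (LinearMap.mulLeft ℤ x) (-(LinearMap.mulRight ℤ x)) :=
    (LinearMap.commute_mulLeft_right x x).neg_right
  rw [sub_eq_add_neg, hcomm.add_pow]
  have hp1 : p - 1 + 1 = p := Nat.succ_pred_eq_of_pos hp.pos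
  rw [hp1, LinearMap.sum_apply]
  refine Finset.sum_congr rfl fun j hj => ?_
  have hj' : j ≤ p - 1 := by
    have := Finset.mem_range.mp hj; omega
  rw [choose_pred_cast p hp hpE j hj', neg_pow, LinearMap.pow_mulLeft, LinearMap.pow_mulRight]
  have h1 : ((-1 : Module.End ℤ B)) ^ (p - 1 - j) * (-1) ^ j = 1 := by
    rw [← pow_add]
    have : p - 1 - j + j = p - 1 := by omega
    rw [this]
    exact neg_one_pow_pred p hp hpE
  have h2 : LinearMap.mulLeft ℤ (x ^ j) * ((-1) ^ (p - 1 - j) * LinearMap.mulRight ℤ (x ^ (p - 1 - j))) *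
      (-1) ^ j = LinearMap.mulLeft ℤ (x ^ j) * LinearMap.mulRight ℤ (x ^ (p - 1 - j)) := by
    have hc : Commute (((-1 : Module.End ℤ B)) ^ j) (LinearMap.mulRight ℤ (x ^ (p - 1 - j))) :=
      ((Commute.neg_one_left _).pow_left j)
    rw [mul_assoc, mul_assoc, ← hc.eq, ← mul_assoc ((-1) ^ (p - 1 - j)), h1, one_mul]
  rw [h2]
  simp [mul_assoc]

/-- in characteristic `p`, `(ad x)^p y = x^p y - y x^p` -/
theorem adA_iterate_char (p : ℕ) (hp : p.Prime) (hpB : (p : B) = 0) (x y : B) :
    (adA x)^[p] y = x ^ p * y - y * x ^ p := by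
  have hp1 : p - 1 + 1 = p := Nat.succ_pred_eq_of_pos hp.pos
  rw [← hp1, Function.iterate_succ_apply', adA_iterate_pred p hp hpB, hp1]
  unfold adA
  rw [Finset.mul_sum, Finset.sum_mul, ← Finset.sum_sub_distrib]
  have : ∀ j ∈ Finset.range p, x * (x ^ j * y * x ^ (p - 1 - j)) - x ^ j * y * x ^ (p - 1 - j) * x =
      (fun j => x ^ j * y * x ^ (p - j)) (j + 1) - (fun j => x ^ j * y * x ^ (p - j)) j := by
    intro j hj
    have hj' : j < p := Finset.mem_range.mp hj
    simp only
    have e1 : p - (j + 1) = p - 1 - j := by omega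
    have e2 : x ^ (p - 1 - j) * x = x ^ (p - j) := by
      rw [← pow_succ]; congr 1; omega
    rw [e1, pow_succ', mul_assoc x, mul_assoc x, mul_assoc _ _ x, e2]
  rw [Finset.sum_congr rfl this, Finset.sum_range_sub (fun j => x ^ j * y * x ^ (p - j)) p]
  simp

end lemmaB

end Groth.Agent.Lib.Helper2.PL
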