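import Mathlib
import Groth.Agent.Lib.Helper2.PLie.Jac1

set_option autoImplicit false
universe u v w
open Polynomial

namespace Groth.Agent.Lib.Helper2.PL

section words

variable {A : Type*} [Ring A]

/-- iterated commutators along a word -/
def cw {ι : Type*} (x : ι → A) (x₁ : A) : List ι → A
  | [] => x₁
  | i :: w => adA (x i) (cw x x₁ w)

@[simp] theorem cw_nil {ι : Type*} (x : ι → A) (x₁ : A) : cw x x₁ [] = x₁ := rfl

@[simp] theorem cw_cons {ι : Type*} (x : ι → A) (x₁ : A) (i : ι) (w : List ι) :
    cw x x₁ (i :: w) = adA (x i) (cw x x₁ w) := rfl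

/-- the pair `(a, b)` indexed by `Bool` (`false ↦ a`, `true ↦ b`) -/
def pr (a b : A) : Bool → A := fun s => if s then b else a

/-- number of `false` values -/
def nf {n : ℕ} (t : Fin n → Bool) : ℕ := (Finset.univ.filter (fun i => t i = false)).card

theorem nf_cons {n : ℕ} (s : Bool) (t : Fin n → Bool) :
    nf (Fin.cons s t : Fin (n + 1) → Bool) = (if s = false then 1 else 0) + nf t := by
  unfold nf
  rw [Fin.card_filter_univ_succ]
  simp only [Fin.cons_zero, Fin.cons_succ]
  split_ifs <;> omega

theorem nf_le {n : ℕ} (t : Fin n → Bool) : nf t ≤ n := by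
  unfold nf
  calc _ ≤ (Finset.univ : Finset (Fin n)).card := Finset.card_filter_le _ _
    _ = n := by simp

end words

section derivpow

variable {A : Type*} [Ring A]

theorem derivative_pow_noncomm (f : A[X]) (n : ℕ) :
    derivative (f ^ n) = ∑ j ∈ Finset.range n, f ^ j * derivative f * f ^ (n - 1 - j) := by
  induction n with
  | zero => simp
  | succ n ih =>
    rw [pow_succ, derivative_mul, ih, Finset.sum_range_succ, Finset.sum_mul]
    congr 1
    · refine Finset.sum_congr rfl fun j hj => ?_
      have hj' : j < n := Finset.mem_range.mp hj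
      have : n + 1 - 1 - j = (n - 1 - j) + 1 := by omega
      rw [this, pow_succ]
      simp only [mul_assoc]
    · simp

end derivpow

section expansion

variable {A : Type*} [Ring A] (a b : A)

/-- `u = a λ + b` -/
noncomputable def uu : A[X] := monomial 1 a + monomial 0 b

theorem uu_eq : uu a b = C a * X + C b := by
  unfold uu
  rw [C_mul_X_eq_monomial, monomial_zero_left]

theorem adA_uu_monomial (r : ℕ) (w : A) :
    adA (uu a b) (monomial r w) = monomial (r + 1) (adA a w) + monomial r (adA b w) := by
  unfold adA uu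
  rw [add_mul, mul_add, monomial_mul_monomial, monomial_mul_monomial, monomial_mul_monomial,
    monomial_mul_monomial, map_sub, map_sub]
  have e1 : 1 + r = r + 1 := by omega
  rw [e1, zero_add, add_zero]
  abel

theorem adA_sum {ι : Type*} (s : Finset ι) (u : A[X]) (F : ι → A[X]) :
    adA u (∑ t ∈ s, F t) = ∑ t ∈ s, adA u (F t) := by
  unfold adA
  rw [Finset.mul_sum, Finset.sum_mul, Finset.sum_sub_distrib]

theorem adA_uu_iterate (y : A) (n : ℕ) :
    (adA (uu a b))^[n] (C y) =
      ∑ t : Fin n → Bool, monomial (nf t) (cw (pr a b) y (List.ofFn t)) := by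
  induction n with
  | zero =>
    simp [nf]
  | succ n ih =>
    rw [Function.iterate_succ_apply', ih, adA_sum]
    rw [← (Fin.consEquiv (fun _ : Fin (n + 1) => Bool)).sum_comp, Fintype.sum_prod_type]
    simp only [Fintype.sum_bool]
    rw [← Finset.sum_add_distrib]
    refine Finset.sum_congr rfl fun t _ => ?_
    rw [adA_uu_monomial]
    have h1 : (Fin.consEquiv (fun _ : Fin (n + 1) => Bool)) (true, t) = Fin.cons true t := rfl
    have h2 : (Fin.consEquiv (fun _ : Fin (n + 1) => Bool)) (false, t) = Fin.cons false t := rfl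
    rw [h1, h2, nf_cons, nf_cons, List.ofFn_succ, List.ofFn_succ]
    simp only [Fin.cons_zero, Fin.cons_succ, cw_cons, pr]
    simp only [if_true, if_false, Bool.true_eq_false, Bool.false_eq_true, zero_add]
    rw [add_comm, add_comm 1 (nf t)]

end expansion

end Groth.Agent.Lib.Helper2.PL
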