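import Mathlib
import Groth.Agent.Lib.Helper2.PLie.Jac2

set_option autoImplicit false
universe u v w
open Polynomial

namespace Groth.Agent.Lib.Helper2.PL

section main

variable {A : Type*} [Ring A] (p : ℕ) (hp : p.Prime) (hpA : (p : A) = 0) (a b : A)

theorem derivative_uu : derivative (uu a b) = C a := by
  unfold uu
  rw [map_add, derivative_monomial, derivative_monomial]
  simp

include hp hpA in
theorem derivative_uu_pow :
    derivative (uu a b ^ p) = (adA (uu a b))^[p - 1] (C a) := by
  have hpP : ((p : ℕ) : A[X]) = 0 := by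
    rw [← C_eq_natCast, hpA, C_0]
  rw [derivative_pow_noncomm, derivative_uu, adA_iterate_pred p hp hpP]

theorem adA_iterate_zero (u : A[X]) (n : ℕ) : (adA u)^[n] 0 = 0 := by
  induction n with
  | zero => rfl
  | succ n ih => rw [Function.iterate_succ_apply', ih]; simp [adA]

theorem adA_iterate_add (u f g : A[X]) (n : ℕ) :
    (adA u)^[n] (f + g) = (adA u)^[n] f + (adA u)^[n] g := by
  induction n with
  | zero => rfl
  | succ n ih =>
    rw [Function.iterate_succ_apply', Function.iterate_succ_apply', Function.iterate_succ_apply', ih]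
    unfold adA
    noncomm_ring

theorem adA_iterate_X_mul (u f : A[X]) (n : ℕ) :
    (adA u)^[n] (X * f) = X * (adA u)^[n] f := by
  induction n with
  | zero => rfl
  | succ n ih =>
    rw [Function.iterate_succ_apply', Function.iterate_succ_apply', ih]
    unfold adA
    rw [mul_sub, ← mul_assoc u X, ← (commute_X u).eq, mul_assoc, mul_assoc]

include hp hpA in
theorem X_mul_derivative_uu_pow :
    X * derivative (uu a b ^ p) =
      -∑ t : Fin (p - 1) → Bool, monomial (nf t) (cw (pr a b) b (List.ofFn t)) := by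
  rw [derivative_uu_pow p hp hpA, ← adA_uu_iterate]
  have h0 : (adA (uu a b))^[p - 1] (uu a b) = 0 := by
    have hp1 : p - 1 = (p - 2) + 1 := by have := hp.two_le; omega
    rw [hp1, Function.iterate_succ_apply]
    have : adA (uu a b) (uu a b) = 0 := by simp [adA]
    rw [this, adA_iterate_zero]
  have hu : uu a b = X * C a + C b := by
    rw [uu_eq, (commute_X (C a)).eq]
  have h1 : (adA (uu a b))^[p - 1] (X * C a + C b) = 0 := by
    rw [← hu]; exact h0
  rw [adA_iterate_add, adA_iterate_X_mul] at h1
  exact eq_neg_of_add_eq_zero_left h1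

include hp hpA in
/-- `i • coeff_i((aλ+b)^p) = -∑_{t, nf t = i} w_t` -/
theorem coeff_mul_natCast (i : ℕ) :
    (uu a b ^ p).coeff i * (i : A) =
      -∑ t : Fin (p - 1) → Bool, if nf t = i then cw (pr a b) b (List.ofFn t) else 0 := by
  have h := congrArg (fun q => coeff q i) (X_mul_derivative_uu_pow p hp hpA a b)
  simp only [coeff_neg, finsetSum_coeff, coeff_monomial] at h
  rw [← h]
  cases i with
  | zero => simp
  | succ k =>
    rw [coeff_X_mul, coeff_derivative]
    push_cast
    rfl

end main

section final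

variable (R : Type*) [CommRing R] (p : ℕ) [hpf : Fact p.Prime] [CharP R p]
  {A : Type*} [Ring A] [Algebra R A]

/-- the coefficient `1/i` -/
noncomputable def zeta (i : ℕ) : R := (ZMod.castHom (dvd_refl p) R) ((i : ZMod p)⁻¹)

theorem zeta_mul (i : ℕ) (hi : 0 < i) (hip : i < p) : zeta R p i * (i : R) = 1 := by
  unfold zeta
  have h1 : (i : R) = (ZMod.castHom (dvd_refl p) R) (i : ZMod p) := by rw [map_natCast]
  rw [h1, ← map_mul]
  have h2 : (i : ZMod p) ≠ 0 := by
    rw [Ne, ZMod.natCast_eq_zero_iff]
    intro hdvd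
    have := Nat.le_of_dvd hi hdvd
    omega
  rw [inv_mul_cancel₀ h2, map_one]

theorem zeta_zero : zeta R p 0 = 0 := by
  unfold zeta
  simp

theorem natCast_eq_zero_of_algebra (R : Type*) [CommRing R] (p : ℕ) [CharP R p]
    (A : Type*) [Ring A] [Algebra R A] : ((p : ℕ) : A) = 0 := by
  have : ((p : ℕ) : A) = algebraMap R A (p : R) := by rw [map_natCast]
  rw [this, CharP.cast_eq_zero R p, map_zero]

/-- Jacobson's sum in an associative algebra -/
noncomputable def jacA (a b : A) : A :=
  ∑ t : Fin (p - 1) → Bool, zeta R p (nf t) • cw (pr a b) b (List.ofFn t)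

theorem natDegree_uu_le (a b : A) : (uu a b).natDegree ≤ 1 := by
  unfold uu
  refine (natDegree_add_le _ _).trans ?_
  rw [max_le_iff]
  exact ⟨natDegree_monomial_le a, (natDegree_monomial_le b).trans (by omega)⟩

theorem coeff_uu_pow_zero (a b : A) (n : ℕ) : (uu a b ^ n).coeff 0 = b ^ n := by
  let ev0 : A[X] →+* A := eval₂RingHom' (RingHom.id A) 0 (fun _ => Commute.zero_right _)
  have h1 : ev0 (uu a b ^ n) = (uu a b ^ n).coeff 0 := by
    change eval₂ (RingHom.id A) 0 (uu a b ^ n) = _
    rw [eval₂_at_zero]; rfl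
  have h2 : ev0 (uu a b) = b := by
    change eval₂ (RingHom.id A) 0 (uu a b) = _
    unfold uu
    rw [eval₂_add, eval₂_monomial, eval₂_monomial]
    simp
  rw [← h1, map_pow, h2]

theorem coeff_uu_pow_self (a b : A) (n : ℕ) : (uu a b ^ n).coeff n = a ^ n := by
  have h := coeff_pow_of_natDegree_le (m := n) (natDegree_uu_le a b)
  rw [mul_one] at h
  rw [h]
  congr 1
  unfold uu
  simp

theorem add_pow_eq_sum_coeff (a b : A) (n : ℕ) :
    (a + b) ^ n = ∑ i ∈ Finset.range (n + 1), (uu a b ^ n).coeff i := by
  let ev1 : A[X] →+* A := eval₂RingHom' (RingHom.id A) 1 (fun _ => Commute.one_right _)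
  have h2 : ev1 (uu a b) = a + b := by
    change eval₂ (RingHom.id A) 1 (uu a b) = _
    unfold uu
    rw [eval₂_add, eval₂_monomial, eval₂_monomial]
    simp
  have h1 : ev1 (uu a b ^ n) = ∑ i ∈ Finset.range (n + 1), (uu a b ^ n).coeff i := by
    change eval₂ (RingHom.id A) 1 (uu a b ^ n) = _
    have hdeg : (uu a b ^ n).natDegree < n + 1 := by
      have := natDegree_pow_le (p := uu a b) (n := n)
      have h3 := natDegree_uu_le a b
      have : n * (uu a b).natDegree ≤ n * 1 := Nat.mul_le_mul_left n h3
      omega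
    rw [eval₂_eq_sum_range' (RingHom.id A) hdeg]
    simp
  rw [← h1, map_pow, h2]

include hpf in
/-- Jacobson's identity in an associative algebra of characteristic `p` -/
theorem add_pow_char_eq (a b : A) :
    (a + b) ^ p = a ^ p + b ^ p - jacA R p a b := by
  have hp := hpf.out
  have hpA : ((p : ℕ) : A) = 0 := natCast_eq_zero_of_algebra R p A
  rw [add_pow_eq_sum_coeff, Finset.sum_range_succ, Finset.range_eq_Ico,
    Finset.sum_eq_sum_Ico_succ_bot hp.pos, coeff_uu_pow_zero, coeff_uu_pow_self]
  have key : ∀ i ∈ Finset.Ico (0 + 1) p, (uu a b ^ p).coeff i =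
      -∑ t : Fin (p - 1) → Bool,
        if nf t = i then zeta R p (nf t) • cw (pr a b) b (List.ofFn t) else 0 := by
    intro i hi
    rw [Finset.mem_Ico] at hi
    have h1 := coeff_mul_natCast p hp hpA a b i
    have h2 : (uu a b ^ p).coeff i = zeta R p i • ((uu a b ^ p).coeff i * (i : A)) := by
      have : ((i : ℕ) : A) = algebraMap R A (i : R) := by rw [map_natCast]
      rw [this, ← Algebra.commutes, ← Algebra.smul_def, smul_smul, zeta_mul R p i (by omega) hi.2,
        one_smul]
    rw [h2, h1, smul_neg, Finset.smul_sum]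
    congr 1
    refine Finset.sum_congr rfl fun t _ => ?_
    split_ifs with h
    · rw [h]
    · rw [smul_zero]
  rw [Finset.sum_congr rfl key, Finset.sum_neg_distrib, Finset.sum_comm]
  have h3 : ∀ t : Fin (p - 1) → Bool,
      (∑ i ∈ Finset.Ico (0 + 1) p,
        if nf t = i then zeta R p (nf t) • cw (pr a b) b (List.ofFn t) else 0) =
      zeta R p (nf t) • cw (pr a b) b (List.ofFn t) := by
    intro t
    rw [Finset.sum_ite_eq]
    split_ifs with h
    · rfl
    · rw [Finset.mem_Ico] at h
      have h4 := nf_le t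
      have h5 : nf t = 0 := by
        by_contra h6
        apply h
        have := hp.two_le
        omega
      rw [h5, zeta_zero, zero_smul]
  rw [Finset.sum_congr rfl fun t _ => h3 t]
  unfold jacA
  abel

end final

end Groth.Agent.Lib.Helper2.PL
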