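import Mathlib
import Groth.Prelude.Def_PLie
import Groth.Agent.Lib.Helper2.PLie.Jac3

set_option autoImplicit false
universe u v w

namespace Groth.Agent.Lib.Helper2.PL

section embed

variable (R : Type u) [CommRing R] (p : ℕ) [hpf : Fact p.Prime] [CharP R p]
  {L : Type v} [LieRing L] [LieAlgebra R L] {A : Type w} [Ring A] [Algebra R A]
  (e : L →ₗ[R] A) (hbr : ∀ x y : L, e ⁅x, y⁆ = e x * e y - e y * e x)

include hbr in
theorem e_bracketWord {ι : Type*} (x : ι → L) (x₁ : L) (w : List ι) :
    e (PLie.bracketWord x x₁ w) = cw (fun i => e (x i)) (e x₁) w := by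
  induction w with
  | nil => rfl
  | cons i w ih =>
    rw [PLie.bracketWord_cons, hbr, ih, cw_cons]
    rfl

include hbr in
theorem e_jacobson (x₀ x₁ : L) :
    e (PLie.jacobson R p x₀ x₁) = jacA R p (e x₀) (e x₁) := by
  unfold PLie.jacobson jacA
  rw [map_sum]
  refine Finset.sum_congr rfl fun t _ => ?_
  rw [map_smul, e_bracketWord R e hbr]
  have h1 : (fun i => e (PLie.pair x₀ x₁ i)) = pr (e x₀) (e x₁) := by
    funext s
    unfold PLie.pair pr
    split_ifs <;> rfl
  have h2 : Fintype.card {i // t i = false} = nf t := by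
    unfold nf
    rw [Fintype.card_subtype]
  rw [h1, h2]
  rfl

include hbr in
theorem e_ad_pow (x y : L) (n : ℕ) :
    e ((LieAlgebra.ad R L x ^ n) y) = (adA (e x))^[n] (e y) := by
  induction n generalizing y with
  | zero => rfl
  | succ n ih =>
    rw [pow_succ, Module.End.mul_apply, ih, LieAlgebra.ad_apply, hbr, Function.iterate_succ_apply]
    rfl

include hpf hbr in
theorem pow_mem_range {ι : Type*} (b : Module.Basis ι R L)
    (hb : ∀ i, e (b i) ^ p ∈ LinearMap.range e) (x : L) : e x ^ p ∈ LinearMap.range e := by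
  have hx : x ∈ Submodule.span R (Set.range b) := by rw [b.span_eq]; trivial
  induction hx using Submodule.span_induction with
  | mem y hy =>
    obtain ⟨i, rfl⟩ := hy
    exact hb i
  | zero =>
    rw [map_zero, zero_pow hpf.out.ne_zero]
    exact zero_mem _
  | add y z _ _ hy hz =>
    rw [map_add, add_pow_char_eq R p, ← e_jacobson R p e hbr]
    exact sub_mem (add_mem hy hz) ⟨_, rfl⟩
  | smul c y _ hy =>
    rw [map_smul, smul_pow]
    exact Submodule.smul_mem _ _ hy

include hpf hbr in
theorem exists_pmap_of_embedding (he : Function.Injective e) {ι : Type*} (b : Module.Basis ι R L)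
    (hb : ∀ i, e (b i) ^ p ∈ LinearMap.range e) :
    ∃ φ : PLie.PMap R p L, ∀ x, e (φ x) = e x ^ p := by
  have hall := pow_mem_range R p e hbr b hb
  choose f hf using hall
  have hpA : ((p : ℕ) : A) = 0 := natCast_eq_zero_of_algebra R p A
  refine ⟨⟨f, ?_, ?_, ?_⟩, hf⟩
  · intro c x
    apply he
    rw [hf, map_smul, smul_pow, map_smul, hf]
  · intro x
    ext y
    apply he
    rw [e_ad_pow R e hbr, LieAlgebra.ad_apply, hbr, hf, adA_iterate_char p hpf.out hpA]
  · intro x y
    apply he
    rw [hf, map_add, add_pow_char_eq R p, map_sub, map_add, hf, hf, e_jacobson R p e hbr]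

end embed

section basis

variable {R : Type u} [CommRing R] {L : Type v} [LieRing L] [LieAlgebra R L]
  {A : Type w} [Ring A] [Algebra R A]

theorem hbr_of_basis {ι : Type*} (e : L →ₗ[R] A) (b : Module.Basis ι R L)
    (h : ∀ i j, e ⁅b i, b j⁆ = e (b i) * e (b j) - e (b j) * e (b i)) :
    ∀ x y : L, e ⁅x, y⁆ = e x * e y - e y * e x := by
  let B1 : L →ₗ[R] L →ₗ[R] A := LinearMap.mk₂ R (fun x y => e ⁅x, y⁆)
    (fun x y z => by simp) (fun c x y => by simp) (fun x y z => by simp) (fun c x y => by simp)
  let B2 : L →ₗ[R] L →ₗ[R] A := LinearMap.mk₂ R (fun x y => e x * e y - e y * e x)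
    (fun x y z => by simp only [map_add]; noncomm_ring)
    (fun c x y => by simp only [map_smul, smul_mul_assoc, mul_smul_comm, smul_sub])
    (fun x y z => by simp only [map_add]; noncomm_ring)
    (fun c x y => by simp only [map_smul, smul_mul_assoc, mul_smul_comm, smul_sub])
  have hB : B1 = B2 := LinearMap.ext_basis b b h
  intro x y
  exact congrArg (fun B : L →ₗ[R] L →ₗ[R] A => B x y) hB

end basis

end Groth.Agent.Lib.Helper2.PL
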